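import Mathlib
import Cfsg.Agent.Lib.Fusion.PSU.Upper
import Cfsg.Agent.Lib.SpBN.Mat

/-!
`SU_n` as a group of matrices with respect to a Witt basis: the matrices `A` with `A^* A = 1`.
-/

set_option autoImplicit false
set_option linter.unusedSectionVars false
set_option linter.unusedSimpArgs false

namespace Cfsg.Agent.Lib.SuBN.Frame

open scoped Matrix
open Cfsg Cfsg.Agent.Lib.SpBN.Mat
open Cfsg.Agent.Lib.Classical.Herm.Basic Cfsg.Agent.Lib.Classical.Herm.GU Cfsg.Agent.Lib.Classical.Herm.SU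
open Cfsg.Agent.Lib.Classical.Herm.Tv
open Cfsg.Agent.Lib.Fusion.PSU.Basis Cfsg.Agent.Lib.Fusion.PSU.Basis.WB Cfsg.Agent.Lib.Fusion.PSU.Upper
open Cfsg.Agent.Lib.Classical.Herm.Form

variable {F : Type*} [Field F] [Fintype F] {q n : ℕ}

local notation "⟪" x ", " y "⟫" => hermForm _ _ q x y

theorem form_eq (hF : Fintype.card F = q ^ 2) (W : WB F q n) (x y : Fin n → F) :
    ⟪x, y⟫ = ∑ i, W.cc i x * (W.cc (Fin.rev i) y) ^ q := by
  conv_lhs => rw [W.expand' x]
  rw [hermForm_sum_left]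
  refine Finset.sum_congr rfl fun i _ => ?_
  rw [W.form_left hF]

/-- The matrix representation in a Witt basis. -/
def rho (W : WB F q n) : SU n F q →* Matrix (Fin n) (Fin n) F where
  toFun := W.M
  map_one' := W.M_one
  map_mul' := W.M_mul

@[simp] theorem rho_apply (W : WB F q n) (g : SU n F q) : rho W g = W.M g := rfl

theorem rho_inj (W : WB F q n) : Function.Injective (rho W) := fun _ _ h => W.ext_M h

/-- The involution on matrices. -/
def stA (q : ℕ) {n : ℕ} (A : Matrix (Fin n) (Fin n) F) : Matrix (Fin n) (Fin n) F :=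
  Matrix.of fun r c => A (Fin.rev c) (Fin.rev r) ^ q

theorem stA_apply (A : Matrix (Fin n) (Fin n) F) (r c : Fin n) :
    stA q A r c = A (Fin.rev c) (Fin.rev r) ^ q := rfl

theorem M_inv (hF : Fintype.card F = q ^ 2) (W : WB F q n) (g : SU n F q) (r c : Fin n) :
    W.M g⁻¹ r c = (W.M g (Fin.rev c) (Fin.rev r)) ^ q := by
  rw [M_apply, cc_def, ← h_act g, act_act_inv, W.form_left hF, M_apply]

theorem cc_P (W : WB F q n) (c : Fin n → F) (i : Fin n) : W.cc i (W.P *ᵥ c) = c i := by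
  rw [P_mulVec, cc_sum]
  simp only [cc_smul, cc_u]
  simp

theorem form_P (hF : Fintype.card F = q ^ 2) (W : WB F q n) (c d : Fin n → F) :
    ⟪W.P *ᵥ c, W.P *ᵥ d⟫ = revForm n q c d := by
  rw [form_eq hF W]
  simp only [cc_P, revForm]

theorem revForm_mulVec (hF : Fintype.card F = q ^ 2) {A : Matrix (Fin n) (Fin n) F}
    (hA : stA q A * A = 1) (a b : Fin n → F) : revForm n q (A *ᵥ a) (A *ᵥ b) = revForm n q a b := by
  have key : ∀ l m : Fin n, ∑ i, A i l * A (Fin.rev i) m ^ q = if Fin.rev m = l then 1 else 0 := by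
    intro l m
    have h := congrFun (congrFun hA (Fin.rev m)) l
    rw [Matrix.mul_apply, Matrix.one_apply] at h
    simp only [stA_apply, Fin.rev_rev] at h
    rw [← h]
    exact Finset.sum_congr rfl fun i _ => mul_comm _ _
  have e1 : ∀ i, (A *ᵥ b) (Fin.rev i) ^ q = ∑ m, A (Fin.rev i) m ^ q * b m ^ q := by
    intro i
    simp only [Matrix.mulVec, dotProduct]
    rw [pow_q_sum hF]
    simp only [mul_pow]
  have e2 : ∀ i, (A *ᵥ a) i = ∑ l, A i l * a l := fun i => rfl
  simp only [revForm, e1, e2]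
  simp only [Finset.sum_mul_sum]
  rw [Finset.sum_comm]
  refine Finset.sum_congr rfl fun l _ => ?_
  rw [Finset.sum_comm]
  have e3 : ∀ m, ∑ i, A i l * a l * (A (Fin.rev i) m ^ q * b m ^ q) =
      (a l * b m ^ q) * (if Fin.rev m = l then 1 else 0) := by
    intro m
    rw [← key, Finset.mul_sum]
    exact Finset.sum_congr rfl fun i _ => by ring
  simp only [e3]
  rw [Finset.sum_eq_single (Fin.rev l)]
  · simp
  · intro m _ hm
    rw [if_neg, mul_zero]
    intro h
    apply hm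
    rw [← h, Fin.rev_rev]
  · simp

/-- The element of `SU` with given matrix in the Witt basis. -/
noncomputable def mkG (hF : Fintype.card F = q ^ 2) (W : WB F q n) (A : Matrix (Fin n) (Fin n) F)
    (h1 : stA q A * A = 1) (h2 : A.det = 1) : SU n F q :=
  mkSU (W.P * A * W.P⁻¹) (by
      rw [Matrix.det_mul, Matrix.det_mul, h2, mul_one, ← Matrix.det_mul,
        Matrix.mul_nonsing_inv _ ((Matrix.isUnit_iff_isUnit_det _).1 W.isUnit_P), Matrix.det_one]) (by
      intro u v
      have hP := (Matrix.isUnit_iff_isUnit_det _).1 W.isUnit_P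
      have hu : ∀ u : Fin n → F, u = W.P *ᵥ (W.P⁻¹ *ᵥ u) := by
        intro u
        rw [Matrix.mulVec_mulVec, Matrix.mul_nonsing_inv _ hP, Matrix.one_mulVec]
      have hv : ∀ u : Fin n → F, (W.P * A * W.P⁻¹) *ᵥ u = W.P *ᵥ (A *ᵥ (W.P⁻¹ *ᵥ u)) := by
        intro u
        rw [Matrix.mulVec_mulVec, Matrix.mulVec_mulVec, Matrix.mul_assoc]
      rw [hv, hv, form_P hF, revForm_mulVec hF h1]
      conv_rhs => rw [hu u, hu v]
      rw [form_P hF])

theorem M_mkG (hF : Fintype.card F = q ^ 2) (W : WB F q n) (A : Matrix (Fin n) (Fin n) F)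
    (h1 : stA q A * A = 1) (h2 : A.det = 1) : W.M (mkG hF W A h1 h2) = A := by
  ext i j
  rw [M_apply]
  have hP := (Matrix.isUnit_iff_isUnit_det _).1 W.isUnit_P
  have e1 : W.u j = W.P *ᵥ (Pi.single j 1) := by
    rw [P_mulVec]
    simp [Pi.single_apply]
  have e2 : act (mkG hF W A h1 h2) (W.u j) = W.P *ᵥ (A *ᵥ (Pi.single j 1)) := by
    show (W.P * A * W.P⁻¹) *ᵥ (W.u j) = _
    rw [e1, Matrix.mulVec_mulVec, Matrix.mul_assoc, Matrix.mul_assoc, Matrix.nonsing_inv_mul _ hP,
      Matrix.mul_one, Matrix.mulVec_mulVec]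
  rw [e2, cc_P]
  simp

/-- A monomial element of `SU` commutes with the opposition. -/
theorem IsMo.rev_comm (hF : Fintype.card F = q ^ 2) (W : WB F q n) {g : SU n F q} {π : Equiv.Perm (Fin n)}
    (hg : IsMo (rho W) g π) (k : Fin n) : π (Fin.rev k) = Fin.rev (π k) := by
  have h1 : IsMo (rho W) g⁻¹ π⁻¹ := hg.inv
  have h2 := h1.ne_zero (π k)
  have e : (π⁻¹ : Equiv.Perm (Fin n)) (π k) = k := by simp
  rw [e, rho_apply, M_inv hF, ] at h2
  have h3 : W.M g (Fin.rev (π k)) (Fin.rev k) ≠ 0 := by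
    intro h4
    rw [h4, zero_pow_q hF] at h2
    exact h2 rfl
  exact ((hg _ _).1 h3).symm

end Cfsg.Agent.Lib.SuBN.Frame
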